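import Cfsg.Agent.H318.Wei.Red
import Cfsg.Agent.H763.Wei.RealG2
import Cfsg.Agent.H441.Wei.CentU3
import Cfsg.Agent.H870.Wei.TE6Three
import Cfsg.Agent.H154.Wei.Names18
import Cfsg.Agent.H154.Wei.Elt
import Cfsg.Agent.H816.OutEmb
import Cfsg.Agent.H934.OutB
import Cfsg.Agent.H190.Exc.CycE6
import Cfsg.Agent.H682.TE6.Kill
import Cfsg.Agent.S2130

/-!
# The sections of `E₇(q)` containing the torus of class 18 (helper318, S3938)

`kill_psu3`, `kill_g2`, `kill_te6` : an almost simple group with socle `U₃(q³)`, `G₂(q³)`, `²E₆(q)` has no element `x` of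
order `(q + 1)(q⁶ - q³ + 1) / (2, q - 1)` with a power of order `r`, `r` a primitive prime divisor of `q¹⁸ - 1`, in the
socle (for `G₂(q³)`: if every element of the socle inverting the power inverts `x`, and the automizer of class 9 of
`E₇(3)`).
-/

set_option autoImplicit false

namespace Cfsg.Agent.H318.Wei

open Cfsg Cfsg.Agent.OrdDiv Cfsg.Agent.H436 Cfsg.Agent.H56.Exc Cfsg.Agent.H563.KG Subgroup

/-- the order of an element divides the orders of the centralisers of its powers -/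
theorem order_dvd_cent {A : Type*} [Group A] [Finite A] {x s : A} (h : Commute x s) :
    orderOf x ∣ Nat.card ↥(centralizer ({s} : Set A)) := by
  have h2 : x ∈ centralizer ({s} : Set A) := by
    rw [mem_centralizer_singleton_iff]
    exact h.eq
  have := orderOf_dvd_natCard (⟨x, h2⟩ : centralizer ({s} : Set A))
  rwa [Subgroup.orderOf_mk] at this

theorem commute_of_mem {A : Type*} [Group A] {x s : A} (h : s ∈ zpowers x) : Commute x s := by
  obtain ⟨k, rfl⟩ := h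
  exact (Commute.refl x).zpow_right k

/-- a multiple of the order -/
theorem OrdX.add_one_dvd {q N k : ℕ} (hx : OrdX q N) (h : N ∣ k * (q ^ 6 - q ^ 3 + 1)) :
    q + 1 ∣ Nat.gcd 2 (q - 1) * k := by
  have h1 : (q + 1) * (q ^ 6 - q ^ 3 + 1) ∣ (Nat.gcd 2 (q - 1) * k) * (q ^ 6 - q ^ 3 + 1) := by
    rw [← hx.eq, mul_assoc]
    exact mul_dvd_mul_left _ h
  exact Nat.dvd_of_mul_dvd_mul_right (by omega) h1

/-- **`U₃(q³)`** -/
theorem kill_psu3 {A : Type} [Group A] [Finite A] (S : Subgroup A) [S.Normal]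
    (hC : centralizer (S : Set A) = ⊥) {p f : ℕ} (hp : p.Prime) (hf : 1 ≤ f)
    (hS : IsNamed (.psu 3 ((p ^ f) ^ 3)) ↥S) {x s : A} (hx : OrdX (p ^ f) (orderOf x)) {r : ℕ}
    (hr : Prim p (f * 18) r) (hs : s ∈ S) (ho : orderOf s = r) (hsx : s ∈ zpowers x) : False := by
  have hq2 : 2 ≤ p ^ f := hp.two_le.trans (Nat.le_self_pow (by omega) p)
  have e1 : (p ^ f) ^ 3 = p ^ (3 * f) := by rw [← pow_mul, mul_comm]
  have h8 : 2 ^ 3 ≤ (p ^ f) ^ 3 := Nat.pow_le_pow_left hq2 3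
  rw [e1] at hS
  have h1 := Cfsg.Agent.H441.Wei.card_cent_psu3 hp (a := 3 * f) (by omega) (by rw [← e1]; omega) S hC hS (r := r)
    (by rw [show 6 * (3 * f) = f * 18 by ring]; exact hr) hs ho
  have h2 := (order_dvd_cent (commute_of_mem hsx)).trans h1
  rw [← e1, ← pow_mul] at h2
  have h3 := hx.add_one_dvd (k := 1) (by rw [one_mul]; exact h2)
  rw [mul_one] at h3
  have h4 := Nat.le_of_dvd (Nat.gcd_pos_of_pos_left _ (by norm_num)) h3
  have h5 : Nat.gcd 2 (p ^ f - 1) ≤ 2 := Nat.gcd_le_left _ (by norm_num)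
  omega

/-- Frattini -/
theorem exists_frattini {A : Type*} [Group A] [Finite A] {r m e : ℕ} (h : Big A r m e) (S : Subgroup A) [hSn : S.Normal]
    (hrS : r ∣ Nat.card S) : ∃ u : S, orderOf u = r ∧ normalizer (zpowers (u : A) : Set A) ⊔ S = ⊤ := by
  have hr := h.prime
  have : Fact r.Prime := ⟨hr⟩
  obtain ⟨P₀⟩ : Nonempty (Sylow r S) := inferInstance
  have hbS := h.subgroup S
  have hP₀1 : (P₀ : Subgroup S) ≠ ⊥ := by
    intro h1
    have h2 := P₀.card_eq_multiplicity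
    rw [h1, Subgroup.card_bot] at h2
    have h3 : 1 ≤ (Nat.card S).factorization r :=
      (hr.dvd_iff_one_le_factorization Nat.card_pos.ne').1 hrS
    have h4 := Nat.one_lt_pow (Nat.one_le_iff_ne_zero.1 h3) hr.one_lt
    omega
  obtain ⟨x, hxP₀, hx, -⟩ := exists_central_orderOf P₀.2 hP₀1
  have hcyc : IsCyclic ↥((P₀ : Subgroup S).map S.subtype) := h.isCyclic_of_isPGroup (P₀.2.map _)
  have hF := Sylow.normalizer_sup_eq_top P₀
  refine ⟨x, hx, ?_⟩
  rw [eq_top_iff, ← hF]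
  refine sup_le_sup_right ?_ S
  intro y hy
  apply Cfsg.Agent.H363.Wei.mem_norm_zpowers
  have h1 : y * (x : A) * y⁻¹ ∈ (P₀ : Subgroup S).map S.subtype :=
    (mem_normalizer_iff.1 hy (x : A)).1 ⟨x, hxP₀, rfl⟩
  exact mem_zpowers_of_cyclic hcyc ⟨x, hxP₀, rfl⟩ h1 (by
    rw [show orderOf (y * (x : A) * y⁻¹) = orderOf (x : A) from by
      rw [← MulAut.conj_apply]; exact (MulAut.conj y).orderOf_eq _])

/-- a real element of odd order in the socle, an element outside the socle: the normaliser has order divisible by 4 -/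
theorem four_dvd {A : Type*} [Group A] [Finite A] {r m e : ℕ} (h : Big A r m e) (hr2 : r ≠ 2) (S : Subgroup A)
    [hSn : S.Normal] (hrS : r ∣ Nat.card S) (hidx : 2 ∣ S.index)
    (hreal : ∀ u : S, orderOf u = r → ∃ t : S, t * u * t⁻¹ = u⁻¹) : 4 ∣ e * m := by
  obtain ⟨u, hu, hN⟩ := exists_frattini h S hrS
  obtain ⟨t, ht⟩ := hreal u hu
  have huA : orderOf (u : A) = r := by rw [Subgroup.orderOf_coe, hu]
  have h1 := h.card_normalizer_dvd huA
  refine dvd_trans ?_ h1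
  set N := normalizer (zpowers (u : A) : Set A) with hNdef
  have h2 : S.index = S.relIndex N := by
    rw [← relIndex_top_right, ← hN, sup_comm, relIndex_sup_left]
  have htA : (t : A) * u * (t : A)⁻¹ = (u : A)⁻¹ := congrArg Subtype.val ht
  have htN : (t : A) ∈ N := by
    apply Cfsg.Agent.H363.Wei.mem_norm_zpowers
    rw [htA]
    exact inv_mem (mem_zpowers _)
  -- the order of `t` is even
  have h3 : 2 ∣ orderOf (t : A) := by
    by_contra hodd
    have h4 : Commute ((t : A) ^ 2) (u : A) := by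
      show (t : A) ^ 2 * u = u * (t : A) ^ 2
      have h5 : (t : A) * u = (u : A)⁻¹ * t := by rw [← htA]; group
      have h6 : (t : A) * (u : A)⁻¹ = u * t := by
        have := congrArg (fun z => (u : A) * (z * 1) * (u : A)⁻¹) h5
        simp only [mul_one] at this
        have e2 : (u : A) * ((u : A)⁻¹ * t) * (u : A)⁻¹ = t * (u : A)⁻¹ := by group
        rw [e2] at this
        rw [← this]
        group
      rw [pow_two, mul_assoc, h5, ← mul_assoc, h6, mul_assoc]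
    have h5 : Commute (t : A) (u : A) := by
      have hco : Nat.Coprime 2 (orderOf (t : A)) := (Nat.Prime.coprime_iff_not_dvd Nat.prime_two).2 hodd
      obtain ⟨k, hk⟩ := exists_pow_eq_self_of_coprime hco
      rw [← hk]
      exact h4.pow_left k
    have h6 : (u : A) = (u : A)⁻¹ := by
      rw [← htA, h5.eq]
      group
    have h7 : (u : A) ^ 2 = 1 := by
      rw [pow_two]
      nth_rewrite 2 [h6]
      exact mul_inv_cancel _
    have h8 := orderOf_dvd_of_pow_eq_one h7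
    rw [huA] at h8
    exact hr2 ((Nat.prime_dvd_prime_iff_eq h.prime Nat.prime_two).1 h8)
  have h4 : 2 ∣ Nat.card ↥(S.subgroupOf N) := by
    refine h3.trans ?_
    have := orderOf_dvd_natCard (⟨⟨(t : A), htN⟩, t.2⟩ : ↥(S.subgroupOf N))
    rw [← Subgroup.orderOf_coe, ← Subgroup.orderOf_coe] at this
    exact this
  have h5 : Nat.card ↥(S.subgroupOf N) * S.relIndex N = Nat.card N := Subgroup.card_mul_index _
  rw [← h5]
  exact mul_dvd_mul h4 (h2 ▸ hidx)

theorem phi_cast {q : ℕ} (hq : 1 ≤ q) : ((q ^ 6 - q ^ 3 + 1 : ℕ) : ℤ) = (q : ℤ) ^ 6 - (q : ℤ) ^ 3 + 1 := by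
  have h0 : q ^ 3 ≤ q ^ 6 := Nat.pow_le_pow_right hq (by norm_num)
  push_cast [Nat.cast_sub h0]
  ring

theorem gcd3_dvd {q : ℕ} (hq : 1 ≤ q) : Nat.gcd 3 (q + 1) ∣ q ^ 6 - q ^ 3 + 1 := by
  rw [← Int.natCast_dvd_natCast, phi_cast hq]
  have h1 : ((Nat.gcd 3 (q + 1) : ℕ) : ℤ) ∣ (q : ℤ) + 1 := by
    exact_mod_cast Int.natCast_dvd_natCast.2 (Nat.gcd_dvd_right 3 (q + 1))
  have h2 : ((Nat.gcd 3 (q + 1) : ℕ) : ℤ) ∣ 3 := by
    exact_mod_cast Int.natCast_dvd_natCast.2 (Nat.gcd_dvd_left 3 (q + 1))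
  have e1 : (q : ℤ) ^ 6 - (q : ℤ) ^ 3 + 1 = ((q : ℤ) + 1) * (((q : ℤ) ^ 2 - q + 1) * ((q : ℤ) ^ 3 - 2)) + 3 := by ring
  rw [e1]
  exact dvd_add (h1.mul_right _) h2

/-- `q + 1` does not divide `2 f (2, q - 1)` -/
theorem eq_three {p f : ℕ} (hp : p.Prime) (hf : 1 ≤ f) (h : p ^ f + 1 ∣ Nat.gcd 2 (p ^ f - 1) * (2 * f)) : p ^ f = 3 := by
  have hg0 : 0 < Nat.gcd 2 (p ^ f - 1) := Nat.gcd_pos_of_pos_left _ (by norm_num)
  have hg2 : Nat.gcd 2 (p ^ f - 1) ≤ 2 := Nat.gcd_le_left _ (by norm_num)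
  have hle := Nat.le_of_dvd (Nat.mul_pos hg0 (by omega)) h
  have h2f : f < 2 ^ f := Nat.lt_two_pow_self
  rcases hp.eq_two_or_odd with rfl | hodd
  · exfalso
    have hg1 : Nat.gcd 2 (2 ^ f - 1) = 1 := by
      rcases (Nat.dvd_prime Nat.prime_two).1 (Nat.gcd_dvd_left 2 (2 ^ f - 1)) with h1 | h1
      · exact h1
      · exfalso
        have h3 := Nat.gcd_dvd_right 2 (2 ^ f - 1)
        rw [h1] at h3
        have h4 : 2 ∣ 2 ^ f := dvd_pow_self 2 (by omega)
        omega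
    rw [hg1, one_mul] at hle
    obtain ⟨k, rfl⟩ : ∃ k, f = k + 1 := ⟨f - 1, by omega⟩
    have h5 : k < 2 ^ k := Nat.lt_two_pow_self
    rw [pow_succ] at hle
    omega
  · have hp3 : 3 ≤ p := by
      have := hp.two_le
      omega
    have h3 : 3 ^ f ≤ p ^ f := Nat.pow_le_pow_left hp3 f
    have h4 : Nat.gcd 2 (p ^ f - 1) * (2 * f) ≤ 4 * f := by
      calc _ ≤ 2 * (2 * f) := Nat.mul_le_mul_right _ hg2
        _ = 4 * f := by ring
    have h5 : ∀ k : ℕ, 4 * (k + 2) ≤ 3 ^ (k + 2) := by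
      intro k
      induction k with
      | zero => norm_num
      | succ k ih =>
        rw [pow_succ]
        omega
    by_cases hf1 : f = 1
    · subst hf1
      rw [pow_one] at *
      omega
    · exfalso
      have h6 := h5 (f - 2)
      rw [Nat.sub_add_cancel (by omega)] at h6
      omega

/-- **`²E₆(q)`** -/
theorem kill_te6 {A : Type} [Group A] [Finite A] (S : Subgroup A) [S.Normal]
    (hC : centralizer (S : Set A) = ⊥) {p f : ℕ} (hp : p.Prime) (hf : 1 ≤ f)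
    (hS : IsNamed (.te6 (p ^ f)) ↥S) {x s : A} (hx : OrdX (p ^ f) (orderOf x)) {r : ℕ}
    (hr : Prim (p ^ f) 18 r) (hs : s ∈ S) (ho : orderOf s = r) (hsx : s ∈ zpowers x) : False := by
  have hpF := Fact.mk hp
  have hq2 : 2 ≤ p ^ f := hp.two_le.trans (Nat.le_self_pow (by omega) p)
  have hqp : IsPrimePow (p ^ f) := hp.isPrimePow.pow (by omega)
  obtain ⟨F, _, _, hF, ⟨φ⟩⟩ := hS.real
  have hF' : Fintype.card F = p ^ (2 * f) := by rw [hF, ← pow_mul, mul_comm]
  have : CharP F p := charP_of_card_eq_prime_pow hF'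
  have h1 := Cfsg.Agent.S2130.result (K := F) p f hF' hf
  rw [← Cfsg.Agent.H934.OutB.card_out_congr φ] at h1
  have hidx : S.index ∣ 2 * Nat.gcd 3 (p ^ f + 1) * f := by
    rw [← h1]
    exact Cfsg.Agent.H816.OutEmb.index_dvd S (by rw [hC]; exact bot_le)
  -- the centraliser in `S`
  have hcent : ∀ z : A, z ∈ S → Commute z s → orderOf z ∣ (((p ^ f) ^ 6 - (p ^ f) ^ 3 + 1) / Nat.gcd 3 (p ^ f + 1)) := by
    intro z hz hzs
    have h2 := (Cfsg.Agent.H190.Exc.te6_18 hqp hF hr).2 (φ ⟨s, hs⟩) (by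
      rw [MulEquiv.orderOf_eq, Subgroup.orderOf_mk, ho])
    have h3 : Commute (φ ⟨z, hz⟩) (φ ⟨s, hs⟩) := by
      have : Commute (⟨z, hz⟩ : S) ⟨s, hs⟩ := Subtype.ext hzs.eq
      exact this.map φ
    have hfin : Finite ↥(Lie.twistedE6 F (p ^ f)) := Finite.of_equiv S φ.toEquiv
    have h4 := order_dvd_cent h3
    rw [MulEquiv.orderOf_eq, Subgroup.orderOf_mk] at h4
    exact h4.trans h2
  have hcx := commute_of_mem hsx
  have h2 : x ^ S.index ∈ S := S.pow_index_mem x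
  have h3 := hcent _ h2 (hcx.pow_left _)
  have h4 : orderOf x ∣ S.index * orderOf (x ^ S.index) := by
    apply orderOf_dvd_of_pow_eq_one
    rw [pow_mul, pow_orderOf_eq_one]
  have h5 : orderOf x ∣ (2 * f) * ((p ^ f) ^ 6 - (p ^ f) ^ 3 + 1) := by
    refine h4.trans ((mul_dvd_mul hidx h3).trans ?_)
    have e1 : 2 * Nat.gcd 3 (p ^ f + 1) * f * (((p ^ f) ^ 6 - (p ^ f) ^ 3 + 1) / Nat.gcd 3 (p ^ f + 1)) =
        (2 * f) * (Nat.gcd 3 (p ^ f + 1) * (((p ^ f) ^ 6 - (p ^ f) ^ 3 + 1) / Nat.gcd 3 (p ^ f + 1))) := by ring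
    rw [e1, Nat.mul_div_cancel' (gcd3_dvd (by omega))]
  have hq3 := eq_three hp hf (hx.add_one_dvd h5)
  -- `q = 3`
  rw [hq3] at hx hr hcent hS
  have hxS : x ∈ S := by
    refine Cfsg.Agent.H870.Wei.te6_three_cent S hC hS hr hs ho ?_
    rw [mem_centralizer_singleton_iff]
    exact hcx.eq
  have h6 := hcent x hxS hcx
  have h7 := hx.add_one_dvd (k := 1) (by
    rw [one_mul]
    exact h6.trans (Nat.div_dvd_of_dvd (gcd3_dvd (by omega))))
  revert h7
  decide

theorem prim_9_757 : Prim 3 9 757 :=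
  Cfsg.Agent.H563.KG.prim_of_dvd c9 (by norm_num) (by norm_num) (by decide +kernel)

theorem prim_757 : Prim (3 ^ 3) 3 757 := by
  refine ⟨by norm_num, fun m => ?_, by norm_num⟩
  rw [← pow_mul, prim_9_757.dvd_iff]
  omega

/-- **`G₂(q³)`** -/
theorem kill_g2 {A : Type} [Group A] [Finite A] (S : Subgroup A) [S.Normal] {p f : ℕ} (hp : p.Prime) (hf : 1 ≤ f)
    (hS : IsNamed (.g2 ((p ^ f) ^ 3)) ↥S) {x s : A} (hx : OrdX (p ^ f) (orderOf x)) {r : ℕ}
    (hr : Prim (p ^ f) 18 r) (hs : s ∈ S) (ho : orderOf s = r) (hsx : s ∈ zpowers x)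
    (hreal : ∀ t : A, t * s * t⁻¹ = s⁻¹ → t * x * t⁻¹ = x⁻¹)
    (hbig : p ^ f = 3 → Big A 757 757 18) : False := by
  have hpF := Fact.mk hp
  have hq2 : 2 ≤ p ^ f := hp.two_le.trans (Nat.le_self_pow (by omega) p)
  have hr6 : Prim ((p ^ f) ^ 3) 6 r := by
    refine ⟨hr.prime, fun m => ?_, fun h => hr.not_dvd_pow _ h⟩
    rw [← pow_mul, hr.dvd_iff]
    omega
  obtain ⟨t, ht⟩ := Cfsg.Agent.H763.Wei.g2_real hS (Or.inl hr6) (s := ⟨s, hs⟩) (by rw [Subgroup.orderOf_mk, ho])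
  have htx := hreal t (congrArg Subtype.val ht)
  have hx2 : x ^ 2 ∈ S := by
    have h1 : (t : A) * (x * (t : A)⁻¹ * x⁻¹) ∈ S :=
      mul_mem t.2 (Normal.conj_mem inferInstance _ (inv_mem t.2) x)
    have h2 : (t : A) * (x * (t : A)⁻¹ * x⁻¹) = (x ^ 2)⁻¹ := by
      calc _ = ((t : A) * x * (t : A)⁻¹) * x⁻¹ := by group
        _ = _ := by rw [htx, pow_two, mul_inv_rev]
    rw [h2] at h1
    simpa using inv_mem h1
  obtain ⟨F, _, _, hF, ⟨φ⟩⟩ := id hS.real
  have hQ1 : (p ^ f) ^ 3 ≤ ((p ^ f) ^ 3) ^ 2 := Nat.le_self_pow (by norm_num) _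
  have hb2 : Big S r (((p ^ f) ^ 3) ^ 2 - (p ^ f) ^ 3 + 1) 6 := by
    refine Big.congr (big_G2_6 hF ?_ hr6) φ.symm
    push_cast [Nat.cast_sub hQ1]
    ring
  have hcent : ∀ z : A, z ∈ S → Commute z s → orderOf z ∣ (p ^ f) ^ 6 - (p ^ f) ^ 3 + 1 := by
    intro z hz hzs
    have h2 := hb2.card ⟨s, hs⟩ (by rw [Subgroup.orderOf_mk, ho])
    have h3 : Commute (⟨z, hz⟩ : S) ⟨s, hs⟩ := Subtype.ext hzs.eq
    have h4 := order_dvd_cent h3
    rw [Subgroup.orderOf_mk] at h4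
    rw [← pow_mul] at h2
    exact h4.trans h2
  have hcx := commute_of_mem hsx
  have h3 := hcent _ hx2 (hcx.pow_left _)
  have h4 : orderOf x ∣ 2 * orderOf (x ^ 2) := by
    apply orderOf_dvd_of_pow_eq_one
    rw [pow_mul, pow_orderOf_eq_one]
  have h5 := hx.add_one_dvd (h4.trans (mul_dvd_mul_left 2 h3))
  have hg0 : 0 < Nat.gcd 2 (p ^ f - 1) := Nat.gcd_pos_of_pos_left _ (by norm_num)
  have hq3 : p ^ f = 3 := eq_three hp hf (by
    have e1 : Nat.gcd 2 (p ^ f - 1) * (2 * f) = Nat.gcd 2 (p ^ f - 1) * 2 * f := by ring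
    rw [e1]
    exact h5.mul_right f)
  rw [hq3] at hx hcent hS
  have hxS : x ∉ S := by
    intro hxS
    have h6 := hcent x hxS hcx
    have h7 := hx.add_one_dvd (k := 1) (by rw [one_mul]; exact h6)
    revert h7
    decide
  -- the index of `S` is even
  have hidx : 2 ∣ S.index := by
    have h6 : orderOf (QuotientGroup.mk' S x) ∣ 2 := by
      apply orderOf_dvd_of_pow_eq_one
      rw [← map_pow]
      exact (QuotientGroup.eq_one_iff _).2 hx2
    have h7 : orderOf (QuotientGroup.mk' S x) = 2 := by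
      rcases (Nat.dvd_prime Nat.prime_two).1 h6 with h8 | h8
      · exfalso
        rw [orderOf_eq_one_iff] at h8
        exact hxS ((QuotientGroup.eq_one_iff _).1 h8)
      · exact h8
    rw [← h7, Subgroup.index]
    exact orderOf_dvd_natCard _
  have hb := hbig hq3
  have hc : 757 ∣ Nat.card S := by
    have h6 := hS.eq
    have h7 : (757 : ℕ) ∣ num (.g2 (3 ^ 3)) := by decide +kernel
    rw [← h6] at h7
    exact ((by norm_num : Nat.Prime 757).dvd_mul.1 h7).resolve_left (by decide +kernel)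
  have h8 := four_dvd hb (by norm_num) S hc hidx fun u hu =>
    Cfsg.Agent.H763.Wei.g2_real hS (Or.inr prim_757) hu
  norm_num at h8

end Cfsg.Agent.H318.Wei
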