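import Cfsg.Agent.H318.Wei.KillA
import Cfsg.Agent.H296.Wei.Name18
import Cfsg.Agent.H344.Wei.Small
import Cfsg.Agent.H682.TE6.One

/-!
# The overgroups of the torus of class 18 of `E₇(q)` (helper318, S3938)

`over_E7` : a proper subgroup containing `x`, an element of order `(q + 1)(q⁶ - q³ + 1) / (2, q - 1)`, normalises the
subgroup `⟨x ^ (q⁶ - q³ + 1)⟩`.
-/

set_option autoImplicit false
set_option linter.unusedSectionVars false

namespace Cfsg.Agent.H318.Wei

open Cfsg Cfsg.Lie Cfsg.Agent.OrdDiv Cfsg.Agent.H436 Cfsg.Agent.H563.KG Cfsg.Agent.H56.Exc Cfsg.Agent.H325.Loc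
  Cfsg.Agent.H290.ElReg Cfsg.Agent.H264.FKS Cfsg.Agent.H363.Wei Cfsg.Agent.H682.TE6 Cfsg.Agent.H325.IsoFree
  Cfsg.Agent.H264.GN

variable {F : Type} [Field F] [Fintype F] {q : ℕ}

/-- the numerical condition -/
theorem small18 {q : ℕ} (hq : 3 ≤ q) : E7 18 * M7 q 18 < ncl 18 q * (ncl 18 q + 1) := by
  have hP : Ph 18 q ≤ ncl 18 q * 3 := Cfsg.Agent.H154.Wei.ph_le rfl
  have h3 : 26 * q ^ 3 + 1 ≤ Ph 18 q := by
    rw [ph18_eq (by omega)]
    have h4 : 3 ^ 3 ≤ q ^ 3 := Nat.pow_le_pow_left hq 3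
    have h5 : 27 * q ^ 3 ≤ q ^ 6 := by
      calc 27 * q ^ 3 ≤ q ^ 3 * q ^ 3 := Nat.mul_le_mul_right _ (by omega)
        _ = q ^ 6 := by ring
    omega
  have h4 : 9 * q ≤ q ^ 3 := by
    have h5 : 3 ^ 2 ≤ q ^ 2 := Nat.pow_le_pow_left hq 2
    calc 9 * q ≤ q ^ 2 * q := Nat.mul_le_mul_right _ (by omega)
      _ = q ^ 3 := by ring
  have hM : E7 18 * M7 q 18 = 18 * (q + 1) * Ph 18 q := by
    show 18 * ((q + 1) * Ph 18 q) = _
    ring
  rw [hM]
  generalize Ph 18 q = P at *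
  generalize ncl 18 q = n at *
  have h5 : 54 * (q + 1) < n + 1 := by omega
  calc 18 * (q + 1) * P ≤ 18 * (q + 1) * (n * 3) := Nat.mul_le_mul_left _ hP
    _ = n * (54 * (q + 1)) := by ring
    _ < n * (n + 1) := Nat.mul_lt_mul_of_pos_left h5 (by omega)

/-- the reduced overgroups -/
theorem one_E7 (hE : CycFixSolv.{0}) (hF : Fintype.card F = q) {H : Subgroup ↥(chevE7.group F)} {y : H}
    (hy : orderOf y = ncl 18 q) (hred : Red H (fun r => r.Prime ∧ r ∣ ncl 18 q)) :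
    (Subgroup.zpowers y).Normal ∨ ∃ S : Subgroup H, S.Normal ∧ IsSimpleGroup S ∧ ¬ IsMulCommutative S ∧
      Subgroup.centralizer (S : Set H) = ⊥ ∧ y ∈ S ∧ (∀ r, Prim q 18 r → Big S r (M7 q 18) 18) := by
  have hfin : Finite ↥(chevE7.group F) := inferInstance
  have hq2 : 2 ≤ q := by rw [← hF]; exact Fintype.one_lt_card
  have hbig : ∀ r, r.Prime → r ∣ ncl 18 q → Big H r (M7 q 18) (E7 18) := fun r hr hrn =>
    (big7 (Or.inr (Or.inr (Or.inr rfl))) hF (prim_of_dvd c18 (by omega) hr hrn)).subgroup H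
  have hn1 : 1 < ncl 18 q := by
    by_cases h3 : 3 ≤ q
    · have := ncl18_big h3
      omega
    · have h2 : q = 2 := by omega
      subst h2
      rw [ncl18_two]
      norm_num
  have hsm : Nat.card H ∣ E7 18 * M7 q 18 → (Subgroup.zpowers y).Normal := by
    intro hd
    by_cases h3 : 3 ≤ q
    · have h0 : 0 < E7 18 * M7 q 18 := by
        have h1 : 0 < Ph 18 q := by rw [ph18_eq (by omega)]; omega
        show 0 < 18 * ((q + 1) * Ph 18 q)
        positivity
      exact normal_of_card_lt hn1 hbig hy ((Nat.le_of_dvd h0 hd).trans_lt (small18 h3))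
    · have h2 : q = 2 := by omega
      subst h2
      have e1 : E7 18 * M7 2 18 = ncl 18 2 * 162 := by decide +kernel
      rw [e1] at hd
      refine normal_of_index hn1 hbig hy hd fun i hi ho => ?_
      obtain ⟨o, ho⟩ := ho
      rw [ncl18_two] at ho
      have h4 : ∀ i ∈ Nat.divisors 162, (i + 18) % 19 = 0 → i = 1 := by decide +kernel
      refine h4 i (Nat.mem_divisors.2 ⟨hi, by norm_num⟩) ?_
      have h5 : i + 18 = o * 19 := by omega
      rw [h5]
      exact Nat.mul_mod_left _ _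
  rcases one_torus' hE hn1 hbig hy hsm hred with h | ⟨S, h1, h2, h3, h4, h5, h6, -⟩
  · exact Or.inl h
  · exact Or.inr ⟨S, h1, h2, h3, h4, h5, fun r hr => (h6 r hr.prime (dvd_ncl c18 (by omega) hr)).1⟩

/-- **The overgroups of the torus.** -/
theorem over_E7 (tb : OrderTable.{0}) (hE : CycFixSolv.{0}) (hcf : CF) (hF : Fintype.card F = q)
    {x : ↥(chevE7.group F)} (hx : OrdX q (orderOf x)) {H : Subgroup ↥(chevE7.group F)} (hxH : x ∈ H) (hH : H ≠ ⊤) :
    H ≤ Subgroup.normalizer (Subgroup.zpowers (x ^ (q ^ 6 - q ^ 3 + 1)) : Set ↥(chevE7.group F)) := by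
  by_cases hred : Red H (fun r => r.Prime ∧ r ∣ ncl 18 q)
  swap
  · exact le_norm_of_not_red tb hE hF hx hxH hred
  obtain ⟨p, f, _, hp, hf, hq⟩ := exists_pf F
  obtain rfl : q = p ^ f := by rw [← hF, hq]
  have := Fact.mk hp
  have hfin : Finite ↥(chevE7.group F) := inferInstance
  have hq2 : 2 ≤ p ^ f := by rw [← hF]; exact Fintype.one_lt_card
  have hT := named_e7 (F := F) tb
  rw [hF] at hT
  obtain ⟨r, hr'⟩ := exists_prim hp.two_le (show 3 ≤ f * 18 by omega) (by omega)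
  have hr : Prim (p ^ f) 18 r := prim_pow hf hr'
  have hrn : r ∣ ncl 18 (p ^ f) := dvd_ncl c18 (by omega) hr
  have hnx := hx.ncl_dvd hq2
  have hn0 : ncl 18 (p ^ f) ≠ 0 := (ncl_pos 18 (by omega)).ne'
  obtain ⟨y₀, hy₀x, hy₀⟩ := exists_pow_of_dvd hnx hn0
  have hle : Subgroup.zpowers x ≤ H := by rwa [Subgroup.zpowers_le]
  obtain ⟨x₀, hx₀y, hx₀⟩ := exists_pow_of_dvd (x := y₀) (by rw [hy₀]; exact hrn) hr.prime.ne_zero
  have hx₀x : x₀ ∈ Subgroup.zpowers x := (Subgroup.zpowers_le.2 hy₀x) hx₀y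
  let y : H := ⟨y₀, hle hy₀x⟩
  let xH : H := ⟨x, hxH⟩
  let s : H := ⟨x₀, hle hx₀x⟩
  have hy : orderOf y = ncl 18 (p ^ f) := by rw [← hy₀]; exact Subgroup.orderOf_mk _ _
  have hxo : orderOf xH = orderOf x := Subgroup.orderOf_mk _ _
  have hso : orderOf s = r := by rw [← hx₀]; exact Subgroup.orderOf_mk _ _
  have hsy : s ∈ Subgroup.zpowers y := by
    obtain ⟨j, hj⟩ := hx₀y
    exact ⟨j, Subtype.ext hj⟩
  have hyx : y ∈ Subgroup.zpowers xH := by
    obtain ⟨j, hj⟩ := hy₀x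
    exact ⟨j, Subtype.ext hj⟩
  have hsx : s ∈ Subgroup.zpowers xH := (Subgroup.zpowers_le.2 hyx) hsy
  rcases one_E7 hE hF hy hred with hn | ⟨S, hSn, hSs, hSna, hSc, hyS, hSb⟩
  · -- the torus is normal
    intro h hh
    have h1 : (⟨h, hh⟩ : H) * s * (⟨h, hh⟩ : H)⁻¹ ∈ Subgroup.zpowers y := hn.conj_mem s hsy _
    have h2 : (⟨h, hh⟩ : H) * s * (⟨h, hh⟩ : H)⁻¹ ∈ Subgroup.zpowers s := by
      refine mem_zpowers_of_cyclic (C := Subgroup.zpowers y) inferInstance hsy h1 ?_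
      rw [← MulAut.conj_apply, (MulAut.conj (⟨h, hh⟩ : H)).orderOf_eq]
    have h3 : h * x₀ * h⁻¹ ∈ Subgroup.zpowers x₀ := by
      obtain ⟨j, hj⟩ := h2
      exact ⟨j, congrArg Subtype.val hj⟩
    have h4 : h * x * h⁻¹ ∈ Subgroup.zpowers x :=
      norm_of_prime (big7 (Or.inr (Or.inr (Or.inr rfl))) hF hr) (hrn.trans hnx) hx₀x hx₀ h3
    apply mem_norm_zpowers
    refine mem_zpowers_of_cyclic (C := Subgroup.zpowers x) inferInstance (pow_mem (Subgroup.mem_zpowers x) _) ?_ ?_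
    · rw [← conj_pow]
      exact pow_mem h4 _
    · rw [← MulAut.conj_apply, (MulAut.conj h).orderOf_eq]
  exfalso
  have hsS : s ∈ S := (Subgroup.zpowers_le.2 hyS) hsy
  have hdS : Nat.card S ∣ num (.e7 (p ^ f)) := IsNamed.card_dvd hT S
  have hnS : ncl 18 (p ^ f) ∣ Nat.card S := by
    rw [← hy, ← Subgroup.orderOf_mk y hyS]
    exact orderOf_dvd_natCard _
  have hrep : Fth 133 F S := ((fth_E7 (F := F)).sub H.subtype H.subtype_injective).sub S.subtype S.subtype_injective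
  have hxX : OrdX (p ^ f) (orderOf xH) := hxo ▸ hx
  obtain ⟨g, hg, hcase⟩ := Cfsg.Agent.H296.Wei.exists_name18 tb hp hf hSna (hcf S) hrep hnS hdS hSb
  rcases hcase with hch | ⟨hq, hg'⟩ | ⟨hq, hg'⟩
  · rcases Cfsg.Agent.H154.Wei.names_e7_18 hp hf hg hch hdS hnS hSb ⟨⟨y, hyS⟩, by rw [Subgroup.orderOf_mk, hy]⟩ with
      rfl | rfl | rfl | rfl | ⟨hq, rfl⟩
    · exact kill_psu3 S hSc hp hf hg hxX hr' hsS hso hsx
    · refine kill_g2 S hp hf hg hxX hr hsS hso hsx ?_ ?_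
      · -- the elements inverting `s` invert `x`
        intro t ht
        obtain ⟨⟨w, hw⟩, hc⟩ := inv18 hF hx.eq
        have ht' : (t : ↥(chevE7.group F)) * x₀ * (t : ↥(chevE7.group F))⁻¹ = x₀⁻¹ := congrArg Subtype.val ht
        have hw' : w * x₀ * w⁻¹ = x₀⁻¹ := by
          obtain ⟨j, hj⟩ := hx₀x
          have hj' : x ^ j = x₀ := hj
          rw [← hj', ← conj_zpow, hw, inv_zpow]
        have h1 : (t : ↥(chevE7.group F)) * w ∈ Subgroup.zpowers x := by
          rw [← hc r hr x₀ hx₀x hx₀, Subgroup.mem_centralizer_singleton_iff, ← mul_inv_eq_iff_eq_mul]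
          calc _ = (t : ↥(chevE7.group F)) * (w * x₀ * w⁻¹) * (t : ↥(chevE7.group F))⁻¹ := by group
            _ = ((t : ↥(chevE7.group F)) * x₀ * (t : ↥(chevE7.group F))⁻¹)⁻¹ := by rw [hw']; group
            _ = _ := by rw [ht', inv_inv]
        have h2 := commute_of_mem h1
        -- `x` commutes with `t w`
        apply Subtype.ext
        show (t : ↥(chevE7.group F)) * x * (t : ↥(chevE7.group F))⁻¹ = x⁻¹
        have h3 : (t : ↥(chevE7.group F)) = (t : ↥(chevE7.group F)) * w * w⁻¹ := by group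
        have h4 : w⁻¹ * x * w = x⁻¹ := by
          have h5 : x⁻¹⁻¹ = (w * x * w⁻¹)⁻¹ := by rw [hw]
          rw [inv_inv] at h5
          calc w⁻¹ * x * w = w⁻¹ * (w * x * w⁻¹)⁻¹ * w := by rw [← h5]
            _ = _ := by group
        calc _ = ((t : ↥(chevE7.group F)) * w) * (w⁻¹ * x * w) * ((t : ↥(chevE7.group F)) * w)⁻¹ := by group
          _ = ((t : ↥(chevE7.group F)) * w) * x⁻¹ * ((t : ↥(chevE7.group F)) * w)⁻¹ := by rw [h4]
          _ = x⁻¹ := by rw [← (h2.inv_left).eq]; group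
      · intro h3
        have hF3 : Fintype.card F = 3 := by rw [hF, h3]
        have h1 := big7 (F := F) (Or.inr (Or.inl rfl)) hF3 prim_9_757
        refine Big.subgroup ⟨h1.prime, h1.cyc, fun z hz => ?_, h1.aut, h1.ndvd⟩ H
        have h2 := ord9 (F := F) hF3 757 prim_9_757 z hz
        have e1 : (3 - 1) * Ph 9 3 / Nat.gcd 2 (3 - 1) = 757 := by decide +kernel
        rwa [e1] at h2
    · exact kill_te6 S hSc hp hf hg hxX hr hsS hso hsx
    · exact hH (eq_top_of_name hT hg)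
    · -- `U₉(2)`
      rw [hq] at hF
      have hpr : Prim 2 14 43 := prim_of_dvd c14 (by norm_num) (by norm_num) (by decide +kernel)
      have h1 := ((big7 (F := F) (Or.inr (Or.inr (Or.inl rfl))) hF hpr).subgroup H).subgroup S
      obtain ⟨z, hz⟩ := Cfsg.Agent.H154.Wei.elt86 hg
      exact kill_elt h1 z (by rw [hz]; norm_num) (s := 2) (by rw [hz]; norm_num) (by decide +kernel)
  · -- the small groups, `q = 2`
    rw [hq] at hxX hy
    have h171 : orderOf xH = 171 := by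
      have := hxX.eq
      norm_num at this
      exact this
    rw [ncl18_two] at hy
    refine Cfsg.Agent.H344.Wei.kill_171 S hSc hg' hg h171 ?_
    refine (Subgroup.zpowers_le.2 hyS) (mem_zpowers_of_cyclic (C := Subgroup.zpowers xH) inferInstance hyx
      (pow_mem (Subgroup.mem_zpowers xH) _) ?_)
    rw [orderOf_pow' xH (by norm_num), h171, hy]
    norm_num
  · -- `L₂(37)`, `q = 3`
    subst hg'
    refine Cfsg.Agent.H344.Wei.kill_703 hg (y := ⟨y, hyS⟩) ?_
    rw [Subgroup.orderOf_mk, hy, hq]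
    decide +kernel

end Cfsg.Agent.H318.Wei
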