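import Cfsg.Agent.H318.Wei.T18
import Cfsg.Agent.H318.Wei.Seven
import Cfsg.Agent.H682.TE6.Comm
import Cfsg.Agent.H363.Wei.One

/-!
# Overgroups of the torus of class 18 of `E₇(q)` with a normal subgroup of order prime to `n` (helper318)

`le_norm_of_not_red` : an overgroup of `⟨x⟩` with a nontrivial normal subgroup of order prime to `ncl 18 q` normalises
the subgroup `Z` of order `(q + 1) / (2, q - 1)` of `⟨x⟩`.
-/

set_option autoImplicit false
set_option linter.unusedSectionVars false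

namespace Cfsg.Agent.H318.Wei

open Cfsg Cfsg.Lie Cfsg.Agent.OrdDiv Cfsg.Agent.H436 Cfsg.Agent.H563.KG Cfsg.Agent.H56.Exc Cfsg.Agent.H325.Loc
  Cfsg.Agent.H290.ElReg Cfsg.Agent.H264.FKS Cfsg.Agent.H363.Wei Cfsg.Agent.H682.TE6 Cfsg.Agent.H325.IsoFree

variable {F : Type} [Field F] [Fintype F] {q : ℕ}

/-- the number `q⁶ - q³ + 1` -/
theorem ph18_eq {q : ℕ} (hq : 1 ≤ q) : Ph 18 q = q ^ 6 - q ^ 3 + 1 := by
  have h0 : q ^ 3 ≤ q ^ 6 := Nat.pow_le_pow_right hq (by norm_num)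
  have h1 : ((Ph 18 q : ℕ) : ℤ) = ((q ^ 6 - q ^ 3 + 1 : ℕ) : ℤ) := by
    rw [cast_Ph18 _ hq]; push_cast [Nat.cast_sub h0]; ring
  exact_mod_cast h1

/-- the order of the torus -/
structure OrdX (q N : ℕ) : Prop where
  eq : Nat.gcd 2 (q - 1) * N = (q + 1) * (q ^ 6 - q ^ 3 + 1)

theorem OrdX.pos {N : ℕ} (h : OrdX q N) : 0 < N := by
  rcases Nat.eq_zero_or_pos N with h0 | h0
  · have := h.eq
    rw [h0, mul_zero] at this
    have h1 : 0 < (q + 1) * (q ^ 6 - q ^ 3 + 1) := by positivity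
    omega
  · exact h0

theorem OrdX.ncl_dvd {N : ℕ} (hq : 2 ≤ q) (h : OrdX q N) : ncl 18 q ∣ N := by
  have h1 : ncl 18 q ∣ Nat.gcd 2 (q - 1) * N := by
    rw [h.eq, ← ph18_eq (by omega : 1 ≤ q)]
    exact (ncl_dvd_Ph 18 q).mul_left _
  refine Nat.Coprime.dvd_of_dvd_mul_left ?_ h1
  rw [Nat.coprime_iff_gcd_eq_one]
  by_contra hcon
  obtain ⟨r, hr, hrd⟩ := Nat.exists_prime_and_dvd hcon
  have h2 := prim_of_dvd c18 (by omega) hr (hrd.trans (Nat.gcd_dvd_left _ _))
  have h3 := Cfsg.Agent.H129.E7Common.prim_lt h2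
  have h4 := Nat.le_of_dvd (by norm_num) ((hrd.trans (Nat.gcd_dvd_right _ _)).trans (Nat.gcd_dvd_left _ _))
  omega

/-- the other primes divide `q + 1` -/
theorem OrdX.dvd_add_one {N t : ℕ} (hq : 2 ≤ q) (h : OrdX q N) (ht : t.Prime) (htN : t ∣ N) (htn : ¬ t ∣ ncl 18 q) :
    t ∣ q + 1 := by
  refine add_of_eighteen (by omega) ht (fun h1 => htn (dvd_ncl c18 (by omega) h1)) ?_
  rw [ph18_eq (by omega), ← h.eq]
  exact htN.mul_left _

theorem ncl18_big {q : ℕ} (hq : 3 ≤ q) : 133 < ncl 18 q := by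
  by_contra hcon
  have h1 := le_four18 (q := q) (by omega)
  have h2 : q = 3 ∨ q = 4 := by omega
  rcases h2 with rfl | rfl
  · exact hcon (by decide +kernel)
  · exact hcon (by decide +kernel)

theorem ncl18_two : ncl 18 2 = 19 := by decide +kernel

/-- the order of `E₇(2)` -/
theorem e7_two {t k : ℕ} (ht : t.Prime) (ht2 : t ≠ 2) (ht7 : t ≠ 7) (ht19 : t ≠ 19) (hk : 0 < k)
    (h : t ^ k ∣ num (.e7 2)) : ¬ 19 ∣ t ^ k - 1 := by
  have h0 : num (.e7 2) = 2 ^ 63 * (3 ^ 11 * (5 ^ 2 * (7 ^ 3 * (11 * (13 * (17 * (19 * (31 * (43 * (73 * 127)))))))))) := by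
    decide +kernel
  have ht' : t ∣ num (.e7 2) := (dvd_pow_self t hk.ne').trans h
  have hcase : t = 3 ∨ t = 5 ∨ t = 11 ∨ t = 13 ∨ t = 17 ∨ t = 31 ∨ t = 43 ∨ t = 73 ∨ t = 127 := by
    rw [h0] at ht'
    have key : ∀ {a : ℕ} (b : ℕ) {c : ℕ}, a.Prime → t ∣ a ^ b * c → t = a ∨ t ∣ c := by
      intro a b c ha hd
      rcases ht.dvd_mul.1 hd with h1 | h1
      · exact Or.inl ((Nat.prime_dvd_prime_iff_eq ht ha).1 (ht.dvd_of_dvd_pow h1))
      · exact Or.inr h1
    have key1 : ∀ {a : ℕ} {c : ℕ}, a.Prime → t ∣ a * c → t = a ∨ t ∣ c := by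
      intro a c ha hd
      rcases ht.dvd_mul.1 hd with h1 | h1
      · exact Or.inl ((Nat.prime_dvd_prime_iff_eq ht ha).1 h1)
      · exact Or.inr h1
    rcases key 63 (by norm_num) ht' with h1 | h1
    · omega
    rcases key 11 (by norm_num) h1 with h1 | h1
    · omega
    rcases key 2 (by norm_num) h1 with h1 | h1
    · omega
    rcases key 3 (by norm_num) h1 with h1 | h1
    · omega
    rcases key1 (by norm_num) h1 with h1 | h1
    · omega
    rcases key1 (by norm_num) h1 with h1 | h1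
    · omega
    rcases key1 (by norm_num) h1 with h1 | h1
    · omega
    rcases key1 (by norm_num) h1 with h1 | h1
    · omega
    rcases key1 (by norm_num) h1 with h1 | h1
    · omega
    rcases key1 (by norm_num) h1 with h1 | h1
    · omega
    rcases key1 (by norm_num) h1 with h1 | h1
    · omega
    · have := (Nat.prime_dvd_prime_iff_eq ht (by norm_num : Nat.Prime 127)).1 h1
      omega
  have one : ∀ s : ℕ, ¬ s ^ 2 ∣ num (.e7 2) → s ^ k ∣ num (.e7 2) → k = 1 := fun s h1 h2 => by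
    have := pow_bound (K := 1) h1 h2
    omega
  rcases hcase with rfl | rfl | rfl | rfl | rfl | rfl | rfl | rfl | rfl
  · have h1 := pow_bound (K := 11) (by rw [h0]; decide +kernel) h
    interval_cases k <;> decide
  · have h1 := pow_bound (K := 2) (by rw [h0]; decide +kernel) h
    interval_cases k <;> decide
  all_goals
    have h1 := one _ (by rw [h0]; decide +kernel) h
    subst h1
    decide

/-- the powers of `x` -/
theorem exists_pow_of_dvd {G : Type*} [Group G] [Finite G] {x : G} {k : ℕ} (h : k ∣ orderOf x) (hk : k ≠ 0) :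
    ∃ y ∈ Subgroup.zpowers x, orderOf y = k := by
  obtain ⟨c, hc⟩ := h
  have h0 : 0 < orderOf x := orderOf_pos x
  have hc0 : c ≠ 0 := by rintro rfl; omega
  refine ⟨x ^ c, ⟨c, zpow_natCast x c⟩, ?_⟩
  rw [orderOf_pow_of_dvd hc0 (by rw [hc]; exact dvd_mul_left _ _), hc, Nat.mul_div_cancel _ (Nat.pos_of_ne_zero hc0)]

/-- the conjugates of the generator of `Z` -/
theorem mem_norm_of_conj_pm {G : Type*} [Group G] [Finite G] {h z : G} (h1 : h * z * h⁻¹ = z ∨ h * z * h⁻¹ = z⁻¹) :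
    h ∈ Subgroup.normalizer (Subgroup.zpowers z : Set G) := by
  apply Cfsg.Agent.H363.Wei.mem_norm_zpowers
  rcases h1 with h1 | h1 <;> rw [h1]
  · exact Subgroup.mem_zpowers z
  · exact inv_mem (Subgroup.mem_zpowers z)

/-- the abelian normal subgroups -/
theorem commute_y (tb : OrderTable.{0}) {p f : ℕ} (hp : p.Prime) (_hf : 1 ≤ f) [CharP F p] (hF : Fintype.card F = p ^ f)
    {x : ↥(chevE7.group F)} (hx : OrdX (p ^ f) (orderOf x)) {H : Subgroup ↥(chevE7.group F)} {y : H}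
    (hyx : (y : ↥(chevE7.group F)) ∈ Subgroup.zpowers x) (hy : orderOf y = ncl 18 (p ^ f)) {t : ℕ} (ht : t.Prime)
    (htp : t ≠ p) (htn : ¬ t ∣ ncl 18 (p ^ f)) {A : Subgroup H} (hAn : A.Normal)
    (hAc : ∀ a ∈ A, ∀ b ∈ A, a * b = b * a) (hAt : ∀ a ∈ A, a ^ t = 1) : ∀ u ∈ A, Commute u y := by
  have := Fact.mk ht
  have := Fact.mk hp
  have hfin : Finite ↥(chevE7.group F) := inferInstance
  have hq2 : 2 ≤ p ^ f := by rw [← hF]; exact Fintype.one_lt_card
  have hPt : IsPGroup t A := fun a => ⟨1, by rw [pow_one]; exact Subtype.ext (hAt a a.2)⟩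
  have hbig : ∀ r, r.Prime → r ∣ ncl 18 (p ^ f) → Big H r (M7 (p ^ f) 18) (E7 18) := fun r hr hrn =>
    (big7 (Or.inr (Or.inr (Or.inr rfl))) hF (prim_of_dvd c18 (by omega) hr hrn)).subgroup H
  obtain ⟨τ, hτ⟩ := (fth_E7 (F := F)).sub H.subtype H.subtype_injective
  have hcard : Fintype.card (Fin 133) = 133 := Fintype.card_fin _
  by_cases hq3 : 3 ≤ p ^ f
  · exact commute_abelian hτ hp hbig hy ht htp hPt hAc htn (Or.inl (by rw [hcard]; exact ncl18_big hq3))
  have hqe : p ^ f = 2 := by omega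
  have hp2 : p = 2 := by
    have h1 : p ∣ 2 := by rw [← hqe]; exact dvd_pow_self p (by omega)
    exact (Nat.prime_dvd_prime_iff_eq hp Nat.prime_two).1 h1
  have hn19 : ncl 18 (p ^ f) = 19 := by rw [hqe]; exact ncl18_two
  have hT := named_e7 (F := F) tb
  rw [hF, hqe] at hT
  have hH : Nat.card H ∣ num (.e7 2) := by
    refine (Subgroup.card_subgroup_dvd_card H).trans ?_
    rw [← hT.eq]
    exact Dvd.intro_left _ rfl
  have ht19 : t ≠ 19 := by
    rintro rfl
    rw [hn19] at htn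
    exact htn dvd_rfl
  by_cases ht7 : t = 7
  · subst ht7
    -- `7³ : 19`
    have hfix : ∀ a ∈ A, Commute y a → a = 1 := by
      intro a ha hc
      obtain ⟨r, hr⟩ := exists_prim hq2 (show 3 ≤ 18 by norm_num) (by omega)
      have hrn : r ∣ ncl 18 (p ^ f) := dvd_ncl c18 (by omega) hr
      obtain ⟨y', hy', hyr⟩ := exists_pow_of_dvd (x := y) (by rw [hy]; exact hrn) hr.prime.ne_zero
      obtain ⟨k, hk⟩ := hy'
      have hk' : y ^ k = y' := hk
      have h1 : ((y' : H) : ↥(chevE7.group F)) ∈ Subgroup.zpowers x := by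
        rw [← hk', Subgroup.coe_zpow]
        exact zpow_mem hyx k
      have h2 := (inv18 hF hx.eq).2 r hr _ h1 (by rw [Subgroup.orderOf_coe, hyr])
      have h3 : ((a : H) : ↥(chevE7.group F)) ∈ Subgroup.zpowers x := by
        rw [← h2, Subgroup.mem_centralizer_singleton_iff, ← hk', Subgroup.coe_zpow]
        have h4 : Commute ((a : H) : ↥(chevE7.group F)) (y : ↥(chevE7.group F)) :=
          congrArg Subtype.val hc.symm.eq
        exact (h4.zpow_right k).eq
      have h4 : orderOf ((a : H) : ↥(chevE7.group F)) ∣ orderOf x := orderOf_dvd_of_mem_zpowers h3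
      have h5 : orderOf ((a : H) : ↥(chevE7.group F)) ∣ 7 := by
        rw [Subgroup.orderOf_coe]
        exact orderOf_dvd_of_pow_eq_one (hAt a ha)
      have h6 := hx.eq
      rw [hqe] at h6
      norm_num at h6
      have h7 : orderOf ((a : H) : ↥(chevE7.group F)) = 1 := by
        rcases (Nat.dvd_prime (by norm_num)).1 h5 with h | h
        · exact h
        · exfalso
          rw [h, h6] at h4
          norm_num at h4
      rw [Subgroup.orderOf_coe] at h7
      exact orderOf_eq_one_iff.1 h7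
    have hy19 : orderOf y = 19 := by rw [hy, hn19]
    obtain ⟨k, hk⟩ := IsPGroup.iff_card.1 hPt
    by_cases hk0 : k = 0
    · intro u hu
      have h1 : A = ⊥ := by rw [← Subgroup.card_eq_one, hk, hk0, pow_zero]
      rw [h1, Subgroup.mem_bot] at hu
      rw [hu]
      exact Commute.one_left y
    exfalso
    have h1 := dvd_card_sub_one (A := A) (by norm_num : Nat.Prime 19) hy19 fun a ha hc => hfix a ha hc
    rw [hk] at h1
    have h2 : 7 ^ k ∣ num (.e7 2) := by
      rw [← hk]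
      exact (Subgroup.card_subgroup_dvd_card A).trans hH
    have h3 : k ≤ 3 := pow_bound (K := 3) (by
      have h0 : num (.e7 2) = 2 ^ 63 * (3 ^ 11 * (5 ^ 2 * (7 ^ 3 * (11 * (13 * (17 * (19 * (31 * (43 * (73 * 127)))))))))) := by
        decide +kernel
      rw [h0]; decide +kernel) h2
    have h4 : k = 3 := by
      interval_cases k
      · exact absurd rfl hk0
      · norm_num at h1
      · norm_num at h1
      · rfl
    have hA343 : Nat.card A = 343 := by rw [hk, h4]; norm_num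
    exact no_seven (Cfsg.Agent.H943.E7V.Adm.comap (adm_E7 (by rw [hF, hqe])) H.subtype H.subtype_injective) A hAt
      hA343 hy19 (by rw [Subgroup.normalizer_eq_top_iff.2 hAn]; exact Subgroup.mem_top y) hfix
  · refine commute_abelian hτ hp hbig hy ht htp hPt hAc htn (Or.inr ⟨by rw [hn19]; norm_num, fun k hk htk => ?_⟩)
    rw [hn19]
    exact e7_two ht (by omega) ht7 ht19 hk (htk.trans hH)

/-- **A normal subgroup of order prime to `n`.** -/
theorem le_norm_of_not_red (tb : OrderTable.{0}) (hE : CycFixSolv.{0}) (hF : Fintype.card F = q) {x : ↥(chevE7.group F)}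
    (hx : OrdX q (orderOf x)) {H : Subgroup ↥(chevE7.group F)} (hxH : x ∈ H)
    (hnr : ¬ Red H (fun r => r.Prime ∧ r ∣ ncl 18 q)) :
    H ≤ Subgroup.normalizer (Subgroup.zpowers (x ^ (q ^ 6 - q ^ 3 + 1)) : Set ↥(chevE7.group F)) := by
  obtain ⟨p, f, _, hp, hf, hq⟩ := exists_pf F
  obtain rfl : q = p ^ f := by rw [← hF, hq]
  have := Fact.mk hp
  have hfin : Finite ↥(chevE7.group F) := inferInstance
  have hq2 : 2 ≤ p ^ f := by rw [← hF]; exact Fintype.one_lt_card
  unfold Red at hnr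
  push Not at hnr
  obtain ⟨N, hN, hNr, hN0⟩ := hnr
  obtain ⟨r, hr⟩ := exists_prim hq2 (show 3 ≤ 18 by norm_num) (by omega)
  have hrn : r ∣ ncl 18 (p ^ f) := dvd_ncl c18 (by omega) hr
  have hnx := hx.ncl_dvd hq2
  have hn0 : ncl 18 (p ^ f) ≠ 0 := (ncl_pos 18 (by omega)).ne'
  obtain ⟨y₀, hy₀x, hy₀⟩ := exists_pow_of_dvd hnx hn0
  have hle : Subgroup.zpowers x ≤ H := by rwa [Subgroup.zpowers_le]
  let y : H := ⟨y₀, hle hy₀x⟩
  have hy : orderOf y = ncl 18 (p ^ f) := by rw [← hy₀]; exact Subgroup.orderOf_mk _ _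
  have hbigr : Big H r (M7 (p ^ f) 18) (E7 18) := (big7 (Or.inr (Or.inr (Or.inr rfl))) hF hr).subgroup H
  have hrH : r ∣ Nat.card H := (hrn.trans (hy ▸ dvd_rfl)).trans (orderOf_dvd_natCard y)
  have hNs : Group.IsSolvable N := isSolvable_of_big hE hbigr hrH (hNr r ⟨hr.prime, hrn⟩)
  obtain ⟨t, ht, A, hAn, hAN, hA0, hAc, hAt⟩ := exists_elem' hN hNs hN0
  have := Fact.mk ht
  have hPt : IsPGroup t A := fun a => ⟨1, by rw [pow_one]; exact Subtype.ext (hAt a a.2)⟩
  obtain ⟨k, hk⟩ := IsPGroup.iff_card.1 hPt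
  have hk0 : k ≠ 0 := by
    rintro rfl
    rw [pow_zero, Subgroup.card_eq_one] at hk
    exact hA0 hk
  have htN : t ∣ Nat.card N := (by rw [hk]; exact dvd_pow_self t hk0 : t ∣ Nat.card A).trans (Subgroup.card_dvd_of_le hAN)
  have htn : ¬ t ∣ ncl 18 (p ^ f) := fun h => hNr t ⟨ht, h⟩ htN
  have htp : t ≠ p := by
    rintro rfl
    have hpiso : PIso t r ↥(chevE7.group F) := piso_E7_18 (F := F) (by rw [hF]; exact hr)
    exact hA0 (pcore_of_piso (hpiso.sub H) hrH A hAn hPt)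
  have hcom := commute_y tb hp hf hF hx (y := y) hy₀x hy ht htp htn hAn hAc hAt
  -- a nontrivial element of `A`
  obtain ⟨⟨a, haA⟩, ha1⟩ := Subgroup.ne_bot_iff_exists_ne_one.1 hA0
  have ha1' : (a : ↥(chevE7.group F)) ≠ 1 := fun h => ha1 (Subtype.ext (Subtype.ext h))
  obtain ⟨x₀, hx₀y, hx₀⟩ := exists_pow_of_dvd (x := y₀) (by rw [hy₀]; exact hrn) hr.prime.ne_zero
  have hx₀x : x₀ ∈ Subgroup.zpowers x := (Subgroup.zpowers_le.2 hy₀x) hx₀y
  have hcent := (inv18 hF hx.eq).2 r hr x₀ hx₀x hx₀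
  have hcomx : ∀ u ∈ A, Commute (u : ↥(chevE7.group F)) x₀ := by
    intro u hu
    obtain ⟨j, hj⟩ := hx₀y
    have hj' : y₀ ^ j = x₀ := hj
    have h1 : Commute (u : ↥(chevE7.group F)) y₀ := congrArg Subtype.val (hcom u hu).eq
    rw [← hj']
    exact h1.zpow_right j
  have hAx : ∀ u ∈ A, (u : ↥(chevE7.group F)) ∈ Subgroup.zpowers x := by
    intro u hu
    rw [← hcent, Subgroup.mem_centralizer_singleton_iff]
    exact (hcomx u hu).eq
  have hao : orderOf (a : ↥(chevE7.group F)) = t := by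
    rw [Subgroup.orderOf_coe]
    exact orderOf_eq_prime (hAt a haA) fun h => ha1 (Subtype.ext h)
  have htq : t ∣ p ^ f + 1 := hx.dvd_add_one hq2 ht (hao ▸ orderOf_dvd_of_mem_zpowers (hAx a haA)) htn
  have hcyc : IsCyclic ↥(Subgroup.zpowers x) := inferInstance
  intro h hh
  apply mem_norm_of_conj_pm
  refine norm_Z hF hr hx₀ (hcomx a haA) ha1' (by rw [hao]; exact htq) ?_ ?_ ?_
  · have h1 : (⟨h, hh⟩ : H) * a * (⟨h, hh⟩ : H)⁻¹ ∈ A := hAn.conj_mem a haA _
    refine mem_zpowers_of_cyclic hcyc (hAx a haA) (hAx _ h1) ?_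
    show orderOf (h * (a : ↥(chevE7.group F)) * h⁻¹) ∣ _
    rw [← MulAut.conj_apply, (MulAut.conj h).orderOf_eq]
  · obtain ⟨j, hj⟩ := hx₀x
    have hj' : x ^ j = x₀ := hj
    rw [← hj']
    exact ((Commute.refl x).pow_left _).zpow_right j
  · apply orderOf_dvd_of_pow_eq_one
    rw [← pow_mul, ← orderOf_dvd_iff_pow_eq_one, mul_comm, ← hx.eq]
    exact dvd_mul_left _ _

end Cfsg.Agent.H318.Wei
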