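import Cfsg.Agent.H318.Wei.Over
import Cfsg.Agent.H339.Spr.E7

/-!
# S3938: the row of `E₇(q)` (helper318, helper339)
-/

set_option autoImplicit false

namespace Cfsg.Agent.H318.Wei

open Cfsg Cfsg.Lie Cfsg.Agent.OrdDiv Cfsg.Agent.H563.KG Cfsg.Agent.H56.Exc

theorem ordX_of_eq {q N : ℕ} (hq : 1 ≤ q) (h : N = (q + 1) * (q ^ 6 - q ^ 3 + 1) / Nat.gcd 2 (q - 1)) : OrdX q N := by
  have h1 : Nat.gcd 2 (q - 1) ∣ q + 1 := by
    rcases (Nat.dvd_prime Nat.prime_two).1 (Nat.gcd_dvd_left 2 (q - 1)) with h2 | h2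
    · rw [h2]; exact one_dvd _
    · have h3 := Nat.gcd_dvd_right 2 (q - 1)
      rw [h2] at h3 ⊢
      omega
  exact ⟨by rw [h, Nat.mul_div_cancel' (h1.mul_right _)]⟩

theorem overE7 (tb : OrderTable.{0}) (hE : CycFixSolv.{0}) (hcf : CF) : Cfsg.Agent.H339.Spr.OverE7 := by
  intro F _ _ x hx H hxH hH
  exact over_E7 tb hE hcf rfl (ordX_of_eq Fintype.card_pos hx) hxH hH

/-- **The row of `E₇(q)`.** -/
theorem row_e7 (tb : OrderTable.{0}) (hE : CycFixSolv.{0}) (hcf : CF) {q : ℕ} : Cfsg.Agent.H862.Spr.Row (.e7 q) :=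
  Cfsg.Agent.H339.Spr.row_e7_of (overE7 tb hE hcf)

end Cfsg.Agent.H318.Wei
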