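import Cfsg.Agent.H318.Wei.Norm
import Cfsg.Agent.H763.Wei.RealG2
import Cfsg.Agent.H563.KG.KE7

/-!
# The torus of class 18 of `E₇(q)` (helper318)

* `torus18` : a cyclic subgroup `T` of order `(q + 1)(q⁶ - q³ + 1) / (2, q - 1)` containing the centralisers of its
  elements of order `r`, `r` a primitive prime divisor of `q¹⁸ - 1`, and inverted by an element;
* `inv18` : every element of that order is inverted.
-/

set_option autoImplicit false
set_option linter.unusedSectionVars false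

namespace Cfsg.Agent.H318.Wei

open Cfsg Cfsg.Lie Cfsg.Agent.H129 Cfsg.Agent.H129.TorusTw Cfsg.Agent.H129.RealT Cfsg.Agent.H129.CycCard
  Cfsg.Agent.H129.CycT Cfsg.Agent.H129.CommDiag Cfsg.Agent.H129.E7Common Cfsg.Agent.H436 Cfsg.Agent.H101.RO
  Cfsg.Agent.H563.KG Cfsg.Agent.Nodes.RGDChev Cfsg.Agent.H56.Exc

universe u

variable {F : Type u} [Field F] [Fintype F] {q : ℕ}

theorem finE7 : Finite CoxeterMatrix.E₇.Group := Nat.finite_of_card_ne_zero (by rw [cardW_E7]; norm_num)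

theorem gcd_two {q : ℕ} (hq : 2 ≤ q) : Nat.gcd 2 (q - 1) = if Odd q then 2 else 1 := by
  split_ifs with h
  · obtain ⟨m, hm⟩ := h
    exact Nat.gcd_eq_left ⟨m, by omega⟩
  · rw [Nat.not_odd_iff_even] at h
    obtain ⟨m, hm⟩ := h
    rw [← Nat.coprime_iff_gcd_eq_one, Nat.Prime.coprime_iff_not_dvd Nat.prime_two]
    omega

/-- **The torus of class 18.** -/
theorem torus18 (hF : Fintype.card F = q) : ∃ T : Subgroup ↥(chevE7.group F), IsCyclic ↥T ∧
    Nat.gcd 2 (q - 1) * Nat.card ↥T = (q + 1) * (q ^ 6 - q ^ 3 + 1) ∧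
    (∀ r, Prim q 18 r → ∀ y ∈ T, orderOf y = r → Subgroup.centralizer {y} ≤ T) ∧
    ∃ w : ↥(chevE7.group F), ∀ b ∈ T, w * b * w⁻¹ = b⁻¹ := by
  have := finE7
  have hq2 : 2 ≤ q := by rw [← hF]; exact Fintype.one_lt_card
  have hp : IsType Cfsg.Lie.chevE7 7 CoxeterMatrix.E₇ := by simp
  have h0 : q ^ 3 ≤ q ^ 6 := Nat.pow_le_pow_right (by omega) (by norm_num)
  have hN18 : (((q + 1) * (q ^ 6 - q ^ 3 + 1) : ℕ) : ℤ) =
      1 + (q : ℤ) - (q : ℤ) ^ 3 - (q : ℤ) ^ 4 + (q : ℤ) ^ 6 + (q : ℤ) ^ 7 := by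
    push_cast [Nat.cast_sub h0]; ring
  have hq18 : q.Coprime ((q + 1) * (q ^ 6 - q ^ 3 + 1)) :=
    UntwData.coprime_of_eq (a := 1 - (q : ℤ) ^ 2 - (q : ℤ) ^ 3 + (q : ℤ) ^ 5 + (q : ℤ) ^ 6) (by rw [hN18]; ring)
  obtain ⟨r, hr⟩ := exists_prim hq2 (show 3 ≤ 18 by norm_num) (by omega)
  have key : ∀ r, Prim q 18 r → ¬ r ∣ Nat.card CoxeterMatrix.E₇.Group ∧
      ∀ s, ¬ (r : ℤ) ∣ Gq DataE7h.B (q : ℤ) (DataE7h.R s) := by
    intro r hr
    have hlt := E7Common.prim_lt hr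
    refine ⟨not_dvd_W7 hr.prime (by omega) (by omega) (by omega) (by omega), fun s hs => ?_⟩
    rcases DataE7h.dvd_of_G (prim_eighteen hr) s hs with h | h
    · exact not_one hr.prime h
    · exact not_prime hr.prime Nat.prime_three (by omega) h
  have hrN : r ∣ (q + 1) * (q ^ 6 - q ^ 3 + 1) := by
    have h1 : (r : ℤ) ∣ (((q + 1) * (q ^ 6 - q ^ 3 + 1) : ℕ) : ℤ) := by
      rw [hN18]
      have := (prim_eighteen hr).mul_right ((q : ℤ) + 1)
      have e : (1 - (q : ℤ) ^ 3 + (q : ℤ) ^ 6) * ((q : ℤ) + 1) =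
        1 + (q : ℤ) - (q : ℤ) ^ 3 - (q : ℤ) ^ 4 + (q : ℤ) ^ 6 + (q : ℤ) ^ 7 := by ring
      rwa [e] at this
    exact Int.natCast_dvd_natCast.1 h1
  rw [gcd_two hq2]
  rcases Nat.even_or_odd q with he | ho
  · rw [if_neg (Nat.not_odd_iff_even.2 he)]
    obtain ⟨T, h1, h3, h4, h5, h6⟩ := UntwT.untw_T hp CoxeterMatrix.E₇.toCoxeterSystem (by norm_num) hF
      TorusChar.invC_E7 (by norm_num) DataE7h.hA DataE7h.chainOK DataE7h.cycOK DataE7h.rootOK
      (N := (q + 1) * (q ^ 6 - q ^ 3 + 1))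
      (by rw [DataE7h.fN_eq, hN18]) hq18 (d := 1) (Or.inr ⟨rfl, sq_surj hF he⟩)
    refine ⟨T, h1, ?_, fun r hr => h5 r hr.prime (key r hr).1 (key r hr).2, ?_⟩
    · rw [one_mul]
      rw [one_mul] at h4
      exact Nat.dvd_antisymm h3 h4
    · obtain ⟨y, hy⟩ := h6 r hr.prime hrN (key r hr).1 (key r hr).2
      refine ⟨y ^ 9, fun b hb => ?_⟩
      refine inv_of_act (r := (q + 1) * (q ^ 6 - q ^ 3 + 1)) (j := 9) ?_ hy hb ?_
      · have h7 : (((q + 1) * (q ^ 6 - q ^ 3 + 1) : ℕ) : ℤ) ∣ (((q ^ 1) ^ 9 + 1 : ℕ) : ℤ) := by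
          refine ⟨(q : ℤ) ^ 2 - q + 1, ?_⟩
          rw [hN18]
          push_cast
          ring
        exact Int.natCast_dvd_natCast.1 h7
      · refine dvd_trans ?_ h3
        have := orderOf_dvd_natCard (⟨b, hb⟩ : ↥T)
        rwa [Subgroup.orderOf_mk] at this
  · rw [if_pos ho]
    obtain ⟨T, h1, h3, h5, h6⟩ := HalfT.half_E7 hF ho hp DataE7h.hA DataE7h.chainOK DataE7h.cycOK DataE7h.rootOK
      (N := (q + 1) * (q ^ 6 - q ^ 3 + 1)) (by rw [DataE7h.fN_eq, hN18]) hq18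
    exact ⟨T, h1, h3, fun r hr => h5 r hr.prime (key r hr).1 (key r hr).2, h6 ⟨r, hr.prime, hrN, (key r hr).1, (key r hr).2⟩⟩

/-- the elements of the order of the torus are inverted, and generate the centralisers of their powers of class 18 -/
theorem inv18 (hF : Fintype.card F = q) {x : ↥(chevE7.group F)}
    (hx : Nat.gcd 2 (q - 1) * orderOf x = (q + 1) * (q ^ 6 - q ^ 3 + 1)) :
    (∃ w : ↥(chevE7.group F), w * x * w⁻¹ = x⁻¹) ∧
      ∀ r, Prim q 18 r → ∀ y ∈ Subgroup.zpowers x, orderOf y = r → Subgroup.centralizer {y} = Subgroup.zpowers x := by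
  have hfin : Finite ↥(chevE7.group F) := inferInstance
  have hq2 : 2 ≤ q := by rw [← hF]; exact Fintype.one_lt_card
  obtain ⟨T, h1, h2, h3, w, hw⟩ := torus18 hF
  have hd : 0 < Nat.gcd 2 (q - 1) := Nat.gcd_pos_of_pos_left _ (by norm_num)
  have hcard : Nat.card ↥T = orderOf x := Nat.eq_of_mul_eq_mul_left hd (h2.trans hx.symm)
  have hle : ∀ r, Prim q 18 r → ∀ y ∈ Subgroup.zpowers x, orderOf y = r → ∃ g : ↥(chevE7.group F),
      Subgroup.centralizer {g * y * g⁻¹} ≤ T ∧ g * x * g⁻¹ ∈ T := by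
    intro r hr y hy hyr
    have hrT : r ∣ Nat.card ↥T := by
      rw [hcard, ← hyr]
      exact orderOf_dvd_of_mem_zpowers hy
    obtain ⟨g, hg⟩ := Cfsg.Agent.H763.Wei.conj_into h1 hr.prime hrT (h3 r hr) hyr
    have ho : orderOf (g * y * g⁻¹) = r := by
      rw [← hyr, ← MulAut.conj_apply]
      exact (MulAut.conj g).orderOf_eq y
    refine ⟨g, h3 r hr _ hg ho, h3 r hr _ hg ho ?_⟩
    rw [Subgroup.mem_centralizer_singleton_iff]
    obtain ⟨k, rfl⟩ := hy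
    have h4 : Commute x (x ^ k) := (Commute.refl x).zpow_right k
    calc g * x * g⁻¹ * (g * x ^ k * g⁻¹) = g * (x * x ^ k) * g⁻¹ := by group
      _ = g * (x ^ k * x) * g⁻¹ := by rw [h4.eq]
      _ = _ := by group
  have hgen : ∀ {g : ↥(chevE7.group F)}, g * x * g⁻¹ ∈ T → T = Subgroup.zpowers (g * x * g⁻¹) := by
    intro g hg
    refine (Subgroup.eq_of_le_of_card_ge (by rwa [Subgroup.zpowers_le]) ?_).symm
    rw [hcard, Nat.card_zpowers, ← MulAut.conj_apply, (MulAut.conj g).orderOf_eq x]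
  constructor
  · obtain ⟨r, hr⟩ := exists_prim hq2 (show 3 ≤ 18 by norm_num) (by omega)
    have hrx : r ∣ orderOf x := by
      have h4 : r ∣ Nat.gcd 2 (q - 1) * orderOf x := by
        rw [hx]
        have h0 : q ^ 3 ≤ q ^ 6 := Nat.pow_le_pow_right (by omega) (by norm_num)
        have h5 : (r : ℤ) ∣ (((q + 1) * (q ^ 6 - q ^ 3 + 1) : ℕ) : ℤ) := by
          push_cast [Nat.cast_sub h0]
          have := (prim_eighteen hr).mul_left ((q : ℤ) + 1)
          have e : ((q : ℤ) + 1) * (1 - (q : ℤ) ^ 3 + (q : ℤ) ^ 6) = (q + 1) * (q ^ 6 - q ^ 3 + 1) := by ring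
          rwa [e] at this
        exact Int.natCast_dvd_natCast.1 h5
      refine (hr.prime.dvd_mul.1 h4).resolve_left fun h5 => ?_
      have h6 := Nat.le_of_dvd (by norm_num) (h5.trans (Nat.gcd_dvd_left _ _))
      have := E7Common.prim_lt hr
      omega
    obtain ⟨y, hy, hyr⟩ : ∃ y ∈ Subgroup.zpowers x, orderOf y = r := by
      obtain ⟨k, hk⟩ := hrx
      have h0 : 0 < orderOf x := orderOf_pos x
      have hk0 : k ≠ 0 := by rintro rfl; omega
      refine ⟨x ^ k, ⟨k, zpow_natCast x k⟩, ?_⟩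
      rw [orderOf_pow_of_dvd hk0 (by rw [hk]; exact dvd_mul_left _ _), hk, Nat.mul_div_cancel _ (Nat.pos_of_ne_zero hk0)]
    obtain ⟨g, -, hg⟩ := hle r hr y hy hyr
    refine ⟨g⁻¹ * w * g, ?_⟩
    have h4 := hw _ hg
    calc g⁻¹ * w * g * x * (g⁻¹ * w * g)⁻¹ = g⁻¹ * (w * (g * x * g⁻¹) * w⁻¹) * g := by group
      _ = g⁻¹ * (g * x * g⁻¹)⁻¹ * g := by rw [h4]
      _ = _ := by group
  · intro r hr y hy hyr
    obtain ⟨g, hg1, hg2⟩ := hle r hr y hy hyr
    refine le_antisymm (fun z hz => ?_) fun z hz => ?_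
    · have h4 : g * z * g⁻¹ ∈ T := by
        apply hg1
        rw [Subgroup.mem_centralizer_singleton_iff] at hz ⊢
        calc g * z * g⁻¹ * (g * y * g⁻¹) = g * (z * y) * g⁻¹ := by group
          _ = g * (y * z) * g⁻¹ := by rw [hz]
          _ = _ := by group
      rw [hgen hg2] at h4
      obtain ⟨k, hk⟩ := h4
      refine ⟨k, ?_⟩
      have hk' : (g * x * g⁻¹) ^ k = g * z * g⁻¹ := hk
      rw [conj_zpow] at hk'
      have h5 := congrArg (fun a => g⁻¹ * a * g) hk'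
      simpa [mul_assoc] using h5
    · rw [Subgroup.mem_centralizer_singleton_iff]
      obtain ⟨i, rfl⟩ := hz
      obtain ⟨j, rfl⟩ := hy
      exact (((Commute.refl x).zpow_right j).zpow_left i).eq

end Cfsg.Agent.H318.Wei
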